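import Cfsg.Agent.OM.Tf.BlkA
import Cfsg.Agent.OM.Tf.Abs
import Cfsg.Agent.BZ.Lab.W
import Cfsg.Agent.BZ.Lab.Geo
import Cfsg.Agent.H592.Defect

/-!
# OM (S4894), `²F₄` : the blocks which belong to a regular torus (helper50)

`lvl` (one large level), **`boxBlk`**.
-/

set_option autoImplicit false
set_option linter.unusedSectionVars false

namespace Cfsg.Agent.OM.Tf

open Cfsg Cfsg.Agent.DL Cfsg.Agent.DL.PP Cfsg.Agent.DL.Uni Cfsg.Agent.DL.Asm Cfsg.Agent.Nodes.Reps Matrix Cfsg.Agent.KZ.Lie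
  Cfsg.Agent.HZ.L Cfsg.Agent.HZ.Gen Cfsg.Agent.Characters.Core Subgroup Cfsg.Agent.LV.Lift Cfsg.Agent.OM.On Cfsg.Agent.Blocks
  Cfsg.Agent.Blocks.Basic

variable {p : ℕ} [Fact p.Prime] {k : Type} [Field k] [CharP k p] [IsAlgClosed k] {Y : Type} [Group Y] {N : Type}
  [Fintype N] [DecidableEq N] {ρ : Y →* GL N k} {F : MulAut Y} {G : Subgroup Y} {D : Datum p ρ F G} [Fintype ↥(GF F G)]

namespace Bk

/-- **one level** -/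
theorem lvl (hq : D.QS) (f : Fr D) {l r m n : ℕ} {α : MulAut ↥(GF F G)} {M : Ideal AlgInt}
    (h : BZ.Lab.Fr l r m (nb D) n _ α) (hM : IsPModular l M) (hp : r ≠ p) (hW : ¬ r ∣ Nat.card D.W) {y : Y} (hy : y ∈ G) {w : D.W}
    (hw : D.Rp w (y⁻¹ * F y)) (hα : ∀ g, (α g : Y) ∈ cj y D.T ↔ (g : Y) ∈ cj y D.T) {z : Vec D.R}
    (h1 : ∀ i, (r : ℤ) ∣ ((D.Wm w * D.Mx - 1) *ᵥ z) i) (h2 : ∀ a ∈ rts D, ¬ (r : ℤ) ∣ a.1 ⬝ᵥ z) {A : Subgroup ↥(GF F G)}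
    (hA : IsPGroup l A) (h3 : ∀ a ∈ A, (a : Y) ∈ cj y D.T) (h4 : ∀ g ∈ centralizer (A : Set ↥(GF F G)), (g : Y) ∈ cj y D.T)
    {B : Set (IrrCharacter ↥(GF F G))} (hB : IsPBlock M B) (sB : BZ.Lab.StB α B) :
    (∀ Q, IsDefectGroup l M B Q → (∀ x ∈ Q, α x = x) → A ≤ Q → ∃ ξ ∈ B, ∃ c, Has f (ξ : ↥(GF F G) → ℂ) w c) ∧
      ∀ ξ ∈ B, ∀ ξ' : IrrCharacter ↥(GF F G), BZ.Lab.St α (ξ' : ↥(GF F G) → ℂ) → ∀ c, Has f (ξ : ↥(GF F G) → ℂ) w c →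
        Has f (ξ' : ↥(GF F G) → ℂ) w c → ξ' ∈ B := by
  have := Fact.mk h.rp
  obtain ⟨s, u, hs, e1, rfl, e3⟩ := exists_P h.rp hp hW hy hw h1 h2
  have := D.amb.finite_GF s.K
  have := Fintype.ofFinite ↥(GF F s.K)
  have e4 : ∀ g : ↥(GF F G), g ∈ centralizer (rT D y r : Set ↥(GF F G)) ↔ (g : Y) ∈ cj y D.T := fun g => by
    rw [← hs.range, ← e3]
    exact ⟨fun ⟨x, hx⟩ => hx ▸ x.2.1, fun hx => ⟨⟨g, hx, g.2.2⟩, rfl⟩⟩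
  have e5 : BZ.Lab.StS α (rT D y r) := fun g => and_congr (hα g) (exists_congr fun j => by
    rw [← map_pow, map_eq_one_iff _ α.injective])
  have e6 : ∀ R : Subgroup ↥(GF F G), IsPGroup r R → rT D y r ≤ R → R ≤ rT D y r := fun R hR e x hx =>
    ⟨(e4 x).1 (centralizer_le e (h.bg.ab' hR hx)), (hR ⟨x, hx⟩).imp fun _ e => congrArg Subtype.val e⟩
  have e7 : A ≤ centralizer (rT D y r : Set ↥(GF F G)) := fun a ha => (e4 a).2 (h3 a ha)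
  have e8 : centralizer (rT D y r : Set ↥(GF F G)) ≤ centralizer (A : Set ↥(GF F G)) := fun g hg a ha =>
    Subtype.ext (cj_comm (h3 a ha) ((e4 g).1 hg))
  have e9 : centralizer (A : Set ↥(GF F G)) ≤ centralizer (rT D y r : Set ↥(GF F G)) := fun g hg => (e4 g).2 (h4 g hg)
  have adj := fun (ξ : IrrCharacter ↥(GF F G)) (hξ : BZ.Lab.St α (ξ : ↥(GF F G) → ℂ)) =>
    (Cf.boxChf D hq).adj f r _ s hp hs 1 _ (BZ.Lab.boxSt.rat h ξ hξ) h.bdr u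
  refine ⟨fun Q hQ hf hAQ => ?_, fun ξ hξ ξ' hξ' c hc hc' => ?_⟩
  · obtain ⟨ξ, hξ, k1⟩ := abs_start h hM (rT_pg r) e5 e6 hA e7 e8 e9 hB sB hQ hf hAQ
    obtain ⟨ψ, k2⟩ := k1.ex h (rT_pg r) s.ι_injective hs.range (sB ξ hξ)
    obtain ⟨u', c, k3⟩ := exists_has (s.fr f) ψ.2
    obtain rfl : u' = u := (W_one e1 _).trans (W_one e1 _).symm
    obtain ⟨ε, ψ', k4, k5⟩ := tor_irr (f := s.fr f) hs.qs e1 k3.fx
    rw [Has, k5] at k3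
    obtain rfl : ψ = ψ' := by_contra fun e => k3 (by
      rw [classInner_irr_ne ψ.2 ψ'.2 fun e' => e (Subtype.ext e'), mul_zero])
    exact ⟨ξ, hξ, c, by rw [Has, ← adj ξ (sB ξ hξ), k5]; exact mul_ne_zero k4 k2⟩
  · obtain ⟨ε, ψ, -, k5⟩ := tor_irr (f := s.fr f) hs.qs e1 (s.fx_iff.2 hc.fx)
    rw [Has, ← adj ξ (sB ξ hξ), k5] at hc
    rw [Has, ← adj ξ' hξ', k5] at hc'
    let e := (s.ι.ofInjective s.ι_injective).trans (MulEquiv.subgroupCongr hs.range)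
    exact abs_bc h hM (rT_pg r) e5 e6 hA e7 e8 e9 hB sB (β := (e.trans e5.cen.res).trans e.symm)
      ⟨s.ι_injective, fun x => congrArg Subtype.val (e.apply_symm_apply (e5.cen.res (e x)))⟩ hs.range hξ hξ'
      (right_ne_zero_of_mul hc) (right_ne_zero_of_mul hc')

end Bk

open Bk in
variable (D) in
/-- **[Blk]** -/
theorem boxBlk : BoxBlk D := by
  rintro hq f l M hM hl B Q A w hB hQ hA ⟨⟨a₀, h0⟩, μ, v, h1, h2⟩ ⟨y, hy, hw, h3, h4⟩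
  have := Fact.mk hM.1
  have := Local.isPrime_of_isPModular hM
  obtain ⟨n, hn⟩ := BZ.Lab.boxGeo D l hM.1 hl
  obtain ⟨m, ⟨⟨α, hα, k1⟩, hm, hu⟩, k2⟩ := ((hn.and (lg_up (stW_zero D hq) f)).and
    ((stW_zero D hq).lg_pr f (ordT D w + Nat.card D.W))).ex
  have : Fact m.Prime := ⟨hm.prime⟩
  have := finite_GF (D.pow hm.pos)
  have := Fintype.ofFinite (GF (F ^ m) G)
  have := D.fW
  obtain ⟨f', k3⟩ := hu
  obtain ⟨i, hi⟩ := hm.exists_eq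
  obtain ⟨r, hr, hrp, k4, k5⟩ := k2 hm.pos w μ ⟨v, h1, a₀, h0, h2 a₀ h0⟩
  obtain ⟨z, k6, k7⟩ := k5 w v h1
  have k8 : ∀ a ∈ rts D, ¬ (r : ℤ) ∣ a.1 ⬝ᵥ z := fun a ha e => h2 a ha ((k7 a ha).1 e)
  have k9 : m < r := lt_of_fix (A := D.Wm w * D.Mx) (t := (p : ℤ) ^ (f.e * i)) hm.prime hr (by
      rw [hi, pow_succ, pow_mul, f.L.pow, smul_pow, one_pow, smul_mul_assoc, one_mul, pow_mul])
    (fun e => Nat.not_dvd_of_pos_of_lt (Nat.pos_of_ne_zero (ordT_ne w)) (by omega) (Int.natCast_dvd.1 e))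
    (by rw [pow_eq f.L hi]; exact k6) (by_contra fun e => k8 a₀ h0 (Finset.dvd_sum fun j _ =>
      (not_not.1 fun e' => e ⟨j, e'⟩ : (r : ℤ) ∣ z j).mul_left _))
  have fr := k1 r hr k9
  have hj := inclusion_injective (le_pow (F := F) (G := G) m)
  have hx : ∀ g, α g = g ↔ ∃ c, inclusion (le_pow (F := F) (G := G) m) c = g := fun g =>
    ⟨fun e => ⟨⟨g, g.2.1, (hα g).symm.trans (congrArg Subtype.val e)⟩, rfl⟩, fun ⟨c, e⟩ => e ▸ Subtype.ext ((hα _).trans c.2.2)⟩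
  have hS := setup fr.pow hj hx hm.ndvd
  have mult : ∀ (χ : IrrCharacter ↥(GF F G)) (ξ : IrrCharacter ↥(GF (F ^ m) G)), BZ.Lab.St α (ξ : ↥(GF (F ^ m) G) → ℂ) →
      (∃ a : ℕ, ¬ m ∣ a ∧ classInner ((ξ : ↥(GF (F ^ m) G) → ℂ) ∘ inclusion (le_pow m)) χ = a) →
      ∀ c, Has f' (ξ : ↥(GF (F ^ m) G) → ℂ) w c ↔ Has f (χ : ↥(GF F G) → ℂ) w c := fun χ ξ hξ ⟨a, a1, a2⟩ c => by
    obtain ⟨-, -, ε, a3, a4⟩ := k3 χ ξ χ.2 ξ.2 (fun g g' hg => by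
      rw [show g' = α g from Subtype.ext (hg.trans (hα g).symm)]
      exact hξ g) a a1 a2
    rw [Has, a4, mul_ne_zero_iff]
    exact and_iff_right (by rcases a3 with rfl | rfl <;> simp)
  obtain ⟨e, -, e1, e2, e3, e4⟩ := BZ.Lab.boxW_of BZ.Lab.boxSt _ fr.toGl hM hj hx B Q hB hQ
  obtain ⟨j1, j2⟩ := lvl (D := D.pow hm.pos) (LV.One.pow_QS hq hm.pos) f' fr hM hrp
    (Nat.not_dvd_of_pos_of_lt Nat.card_pos (by show Nat.card D.W < r; omega)) hy (rp_pow f.L hm.pos hi hy hw)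
    (fun g => by rw [hα]; exact (D.conj hy ⟨w, hw⟩).F_mem_T_iff g) k6 k8 (A := A.map (inclusion (le_pow m)))
    (((isPGroup_of_isDefectGroup hQ).to_le hA).map _) (by rintro _ ⟨a, ha, rfl⟩; exact h3 a ha) (fun g hg => by
      obtain ⟨u, a1, a2⟩ := h4 g g.2.1 fun a ha => (congrArg Subtype.val (hg _ ⟨a, ha, rfl⟩)).symm
      exact mem_T f.L hm.pos hi hy hw g.2.2 a1 a2) e1 e2
  refine ⟨?_, fun χ hχ c hc => ⟨hc.fx, fun χ' hc' => ?_⟩⟩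
  · obtain ⟨_, ⟨χ, hχ, rfl⟩, c, hc⟩ := j1 _ e3 (by rintro _ ⟨x, -, rfl⟩; exact (hx _).2 ⟨x, rfl⟩) (map_mono hA)
    exact ⟨χ, hχ, c, (mult χ _ (e2 _ ⟨χ, hχ, rfl⟩) (e4 χ hχ).2 c).1 hc⟩
  · obtain ⟨e', -, a1, a2⟩ := exists_bij hS
    have a3 : BZ.Lab.St α (e' χ' : ↥(GF (F ^ m) G) → ℂ) := (a1 _).2 ⟨χ', rfl⟩
    obtain ⟨χ'', a4, a5⟩ := j2 _ ⟨χ, hχ, rfl⟩ _ a3 c ((mult χ _ (e2 _ ⟨χ, hχ, rfl⟩) (e4 χ hχ).2 c).2 hc)
      ((mult χ' _ a3 (a2 χ') c).2 hc')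
    obtain ⟨M', hM'⟩ := ExistsModular.exists_isPModular hm.prime
    obtain ⟨b, b1, b2⟩ := a2 χ'
    obtain ⟨b', b3, b4⟩ := (e4 χ'' a4).2
    rw [a5] at b4
    exact H593.GlaubermanP.unique_beta hS hM' (inv_zpowers _ a3) (fun x => b3 ((H593.GlaubermanP.good_iff hS hM' b4).1 x))
      (fun x => b1 ((H593.GlaubermanP.good_iff hS hM' b2).1 x)) ▸ a4

end Cfsg.Agent.OM.Tf
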