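import Cfsg.Agent.OM.Tf.Defs
import Cfsg.Agent.OM.Au.Gr

/-!
# OM (S4894), the large Ree groups `²F₄` : the finite checks (helper6)

`boxFin : BoxFin`.
-/

set_option autoImplicit false
set_option linter.unusedSectionVars false

namespace Cfsg.Agent.OM.Tf

open Cfsg Cfsg.Lie Cfsg.Agent.DL Cfsg.Agent.DL.PP Matrix Cfsg.Agent.KZ.Lie Cfsg.Agent.HZ.L Cfsg.Agent.OM.Au Cfsg.Agent.KZ.DatX
  Cfsg.Agent.KZ.McX Cfsg.Agent.KZ.TF Cfsg.Agent.Nodes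

namespace FinA

/-- a row times a matrix -/
def vm (a : Fin 4 → ℤ) (A : Matrix (Fin 4) (Fin 4) ℤ) : Fin 4 → ℤ :=
  fun j => a 0 * A 0 j + a 1 * A 1 j + a 2 * A 2 j + a 3 * A 3 j

theorem vm_eq (a : Fin 4 → ℤ) (A : Matrix (Fin 4) (Fin 4) ℤ) : vm a A = a ᵥ* A := by
  funext j
  simp only [vm, vecMul, dotProduct, Fin.sum_univ_four]

/-- a minor -/
def m3 (b c d : Fin 4 → ℤ) (i j k : Fin 4) : ℤ :=
  b i * (c j * d k - c k * d j) - b j * (c i * d k - c k * d i) + b k * (c i * d j - c j * d i)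

/-- the determinant of four rows -/
def d4 (a b c d : Fin 4 → ℤ) : ℤ := a 0 * m3 b c d 1 2 3 - a 1 * m3 b c d 0 2 3 + a 2 * m3 b c d 0 1 3 - a 3 * m3 b c d 0 1 2

theorem d4_mul (a b c d v : Fin 4 → ℤ) (j : Fin 4) :
    ∃ x y z w, d4 a b c d * v j = x * (a ⬝ᵥ v) + y * (b ⬝ᵥ v) + z * (c ⬝ᵥ v) + w * (d ⬝ᵥ v) := by
  simp only [dotProduct, Fin.sum_univ_four]
  match j with
  | 0 => exact ⟨m3 b c d 1 2 3, -m3 a c d 1 2 3, m3 a b d 1 2 3, -m3 a b c 1 2 3, by simp only [d4, m3]; ring⟩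
  | 1 => exact ⟨-m3 b c d 0 2 3, m3 a c d 0 2 3, -m3 a b d 0 2 3, m3 a b c 0 2 3, by simp only [d4, m3]; ring⟩
  | 2 => exact ⟨m3 b c d 0 1 3, -m3 a c d 0 1 3, m3 a b d 0 1 3, -m3 a b c 0 1 3, by simp only [d4, m3]; ring⟩
  | 3 => exact ⟨-m3 b c d 0 1 2, m3 a c d 0 1 2, -m3 a b d 0 1 2, m3 a b c 0 1 2, by simp only [d4, m3]; ring⟩

section Mod

variable {l m : ℕ} {A : Matrix (Fin 4) (Fin 4) ℤ} {u u' v a b c d : Fin 4 → ℤ}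

theorem of_pow (hl : l.Prime) (h2 : l ≠ 2) {x : ℤ} (h : (l : ℤ) ∣ 2 ^ m * x) : (l : ℤ) ∣ x :=
  ((Nat.prime_iff_prime_int.1 hl).dvd_or_dvd h).resolve_left fun e =>
    h2 ((Nat.prime_dvd_prime_iff_eq hl Nat.prime_two).1 (Int.natCast_dvd_natCast.1 ((Nat.prime_iff_prime_int.1 hl).dvd_of_dvd_pow e)))

theorem kill (hl : l.Prime) (h2 : l ≠ 2) (h : d4 a b c d ∣ 16) (ha : (l : ℤ) ∣ a ⬝ᵥ v) (hb : (l : ℤ) ∣ b ⬝ᵥ v) (hc : (l : ℤ) ∣ c ⬝ᵥ v)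
    (hd : (l : ℤ) ∣ d ⬝ᵥ v) (j : Fin 4) : (l : ℤ) ∣ v j := by
  obtain ⟨x, y, z, w, e⟩ := d4_mul a b c d v j
  refine of_pow (m := 4) hl h2 (Dvd.dvd.trans ?_ (mul_dvd_mul_right h (v j)))
  rw [e]
  exact (((ha.mul_left _).add (hb.mul_left _)).add (hc.mul_left _)).add (hd.mul_left _)

/-- fixed modulo `l` -/
def Fx (l m : ℕ) (A : Matrix (Fin 4) (Fin 4) ℤ) (v : Fin 4 → ℤ) : Prop := ∀ i, (l : ℤ) ∣ (((2 : ℤ) ^ m • A - 1) *ᵥ v) i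

theorem dvd_dot {x : ℤ} (h : ∀ i, x ∣ v i) (a : Fin 4 → ℤ) : x ∣ a ⬝ᵥ v := Finset.dvd_sum fun i _ => (h i).mul_left _

theorem Fx.step (hl : l.Prime) (h2 : l ≠ 2) (h : Fx l m A v) (ha : (l : ℤ) ∣ a ⬝ᵥ v) : (l : ℤ) ∣ vm a A ⬝ᵥ v := by
  have h1 := dvd_dot h a
  rw [sub_mulVec, one_mulVec, smul_mulVec, dotProduct_sub, dotProduct_smul, dotProduct_mulVec, smul_eq_mul, ← vm_eq] at h1
  exact of_pow hl h2 ((dvd_sub_left ha).1 h1)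

theorem exists_v (hl : l.Prime) (h : Fx l m A u) (h' : Fx l m A u')
    (hi : ∀ x y : ℤ, (∀ i, (l : ℤ) ∣ (x • u + y • u') i) → (l : ℤ) ∣ x ∧ (l : ℤ) ∣ y) (b : Fin 4 → ℤ) :
    ∃ v, (¬ ∀ j, (l : ℤ) ∣ v j) ∧ Fx l m A v ∧ (l : ℤ) ∣ b ⬝ᵥ v ∧ ∀ a, (l : ℤ) ∣ a ⬝ᵥ u → (l : ℤ) ∣ a ⬝ᵥ u' → (l : ℤ) ∣ a ⬝ᵥ v := by
  by_cases hb : (l : ℤ) ∣ b ⬝ᵥ u
  · refine ⟨u, fun e => (Nat.prime_iff_prime_int.1 hl).not_dvd_one (hi 1 0 fun i => ?_).1, h, hb, fun _ e _ => e⟩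
    rw [one_smul, zero_smul, add_zero]
    exact e i
  · refine ⟨(b ⬝ᵥ u') • u + (-(b ⬝ᵥ u)) • u', fun e => hb (dvd_neg.1 (hi _ _ e).2), fun i => ?_, ?_, fun a e e' => ?_⟩
    · rw [mulVec_add, mulVec_smul, mulVec_smul]
      exact ((h i).mul_left _).add ((h' i).mul_left _)
    · rw [dotProduct_add, dotProduct_smul, dotProduct_smul, smul_eq_mul, smul_eq_mul, neg_mul, mul_comm, add_neg_cancel]
      exact dvd_zero _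
    · rw [dotProduct_add, dotProduct_smul, dotProduct_smul]
      exact (e.mul_left _).add (e'.mul_left _)

end Mod

/-- the test vectors -/
def bL : List (Fin 4 → ℤ) := [![1, 0, 0, 0], ![0, 1, 0, 0], ![1, 1, 0, 0], ![0, 0, 1, 0], ![0, 0, 0, 1]]

/-- the matrices of the types -/
def aT (i : Fin 11) : Matrix (Fin 4) (Fin 4) ℤ := mW (wd i) G4

/-- the certificate for a row -/
def Ok (A : Matrix (Fin 4) (Fin 4) ℤ) (a : Fin 4 → ℤ) : Prop := ∃ b ∈ bL, d4 a (vm a A) b (vm b A) ∣ 16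

instance decOk (A : Matrix (Fin 4) (Fin 4) ℤ) (a : Fin 4 → ℤ) : Decidable (Ok A a) :=
  inferInstanceAs (Decidable (∃ b ∈ bL, d4 a (vm a A) b (vm b A) ∣ 16))

/-- the quadratic relations `A² = 2 h A + n` -/
def hn (i : Fin 11) : ℤ × ℤ := if i = 0 then (0, 2) else if i = 4 then (0, -2) else if i = 5 then (-1, -2) else (1, -2)

theorem c1 : ∀ i : Fin 11, i ∈ [0, 4, 5, 6] ∨
    ∃ b ∈ bL, d4 b (vm b (aT i)) (vm (vm b (aT i)) (aT i)) (vm (vm (vm b (aT i)) (aT i)) (aT i)) ∣ 16 := by decide +kernel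

theorem c2 : ∀ i ∈ ([0, 4, 5, 6] : List (Fin 11)), ∀ r < chevF4.nroots, Ok (aT i) (RGDChev.vec chevF4 4 r) := by decide +kernel

theorem c3 : ∀ i ∈ ([0, 4, 5, 6] : List (Fin 11)), ∀ L ∈ cwL i, L = [] ∨ ∃ c ∈ bL, Ok (aT i) (vm c (mW L 1) - c) := by
  decide +kernel

theorem c4 : ∀ i ∈ ([0, 4, 5, 6] : List (Fin 11)), aT i * aT i = (2 * (hn i).1) • aT i + (hn i).2 • 1 := by decide +kernel

theorem c5 : ∀ i ∈ ([0, 4, 5, 6] : List (Fin 11)), ∀ r < chevF4.nroots,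
    (vm (RGDChev.vec chevF4 4 r) (aT i) ⬝ᵥ 1 - (hn i).1 * (RGDChev.vec chevF4 4 r ⬝ᵥ 1)) ^ 2 ≠
      ((hn i).1 ^ 2 + (hn i).2) * (RGDChev.vec chevF4 4 r ⬝ᵥ 1) ^ 2 := by decide +kernel

/-- an eigenvector from a quadratic relation -/
theorem exists_eig {A : Matrix (Fin 4) (Fin 4) ℤ} {h n : ℤ} (e : A * A = (2 * h) • A + n • 1) (t : ℤ) :
    ∃ μ y, IsE (t • A) μ y ∧ ∀ a, (vm a A ⬝ᵥ 1 - h * (a ⬝ᵥ 1)) ^ 2 ≠ (h ^ 2 + n) * (a ⬝ᵥ 1) ^ 2 → ev a y ≠ 0 := by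
  obtain ⟨z, hz⟩ := IsAlgClosed.exists_eq_mul_self ((h : ℂ) ^ 2 + n)
  refine ⟨t * (h + z), fun i => (A *ᵥ 1) i - (h - z), funext fun i => ?_, fun a ha e' => ha (Int.cast_injective (α := ℂ) ?_)⟩
  · have h1 : (A *ᵥ (A *ᵥ 1)) i = 2 * h * (A *ᵥ 1) i + n := by
      rw [mulVec_mulVec, e, add_mulVec, smul_mulVec, smul_mulVec, one_mulVec]
      simp only [Pi.add_apply, Pi.smul_apply, smul_eq_mul, Pi.one_apply, mul_one]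
    have h2 := congrArg (Int.cast : ℤ → ℂ) h1
    simp only [mulVec, dotProduct, Fin.sum_univ_four, map_apply, Matrix.smul_apply, Pi.smul_apply, smul_eq_mul, Pi.one_apply,
      mul_one] at h2 ⊢
    push_cast at h2 ⊢
    linear_combination (t : ℂ) * h2 + (t : ℂ) * hz
  · simp only [ev, vm, mulVec, dotProduct, Fin.sum_univ_four, Pi.one_apply, mul_one] at e' ⊢
    push_cast at e' ⊢
    rw [hz]
    linear_combination (((a 0 : ℂ) * A 0 0 + a 1 * A 1 0 + a 2 * A 2 0 + a 3 * A 3 0 + (a 0 * A 0 1 + a 1 * A 1 1 + a 2 * A 2 1 + a 3 * A 3 1) +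
      (a 0 * A 0 2 + a 1 * A 1 2 + a 2 * A 2 2 + a 3 * A 3 2) + (a 0 * A 0 3 + a 1 * A 1 3 + a 2 * A 2 3 + a 3 * A 3 3)) -
      (h + z) * (a 0 + a 1 + a 2 + a 3)) * e'

section Mod

variable {l m : ℕ} {A : Matrix (Fin 4) (Fin 4) ℤ} {u u' a : Fin 4 → ℤ}

theorem Ok.no (hl : l.Prime) (h2 : l ≠ 2) (h : Fx l m A u) (h' : Fx l m A u')
    (hi : ∀ x y : ℤ, (∀ i, (l : ℤ) ∣ (x • u + y • u') i) → (l : ℤ) ∣ x ∧ (l : ℤ) ∣ y) (ho : Ok A a) (e : (l : ℤ) ∣ a ⬝ᵥ u) :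
    ¬ (l : ℤ) ∣ a ⬝ᵥ u' := fun e' =>
  let ⟨b, _, hb⟩ := ho
  let ⟨_, k1, k2, k3, k4⟩ := exists_v hl h h' hi b
  k1 (kill hl h2 hb (k4 a e e') (k2.step hl h2 (k4 a e e')) k3 (k2.step hl h2 k3))

theorem mem_of {i : Fin 11} (hl : l.Prime) (h2 : l ≠ 2) (h : Fx l m (aT i) u) (h' : Fx l m (aT i) u')
    (hi : ∀ x y : ℤ, (∀ i, (l : ℤ) ∣ (x • u + y • u') i) → (l : ℤ) ∣ x ∧ (l : ℤ) ∣ y) : i ∈ ([0, 4, 5, 6] : List (Fin 11)) :=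
  (c1 i).resolve_right fun ⟨b, _, hb⟩ =>
    let ⟨_, k1, k2, k3, _⟩ := exists_v hl h h' hi b
    k1 (kill hl h2 hb k3 (k2.step hl h2 k3) (k2.step hl h2 (k2.step hl h2 k3)) (k2.step hl h2 (k2.step hl h2 (k2.step hl h2 k3))))

theorem row_dvd {x : ℤ} {V : Matrix (Fin 4) (Fin 4) ℤ} (h : ∀ i, x ∣ ((V - 1) *ᵥ u) i) (c : Fin 4 → ℤ) : x ∣ (vm c V - c) ⬝ᵥ u := by
  have h1 := dvd_dot h c
  rwa [dotProduct_mulVec, vecMul_sub, vecMul_one, ← vm_eq] at h1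

end Mod

theorem det_cast (A : Matrix (Fin 4) (Fin 4) ℤ) {t : ℤ} (ht : t ≠ 0) :
    (((5 : ℂ) / t) • (t • A).map (Int.cast : ℤ → ℂ) - (1 : ℂ) • 1).det = (((5 : ℤ) • A - 1).det : ℤ) := by
  have h0 : (t : ℂ) ≠ 0 := Int.cast_ne_zero.2 ht
  rw [Int.cast_det]
  refine congrArg det (Matrix.ext fun i j => ?_)
  simp only [Matrix.sub_apply, Matrix.smul_apply, map_apply, smul_eq_mul, Int.cast_mul, Int.cast_sub, one_apply, Int.cast_ite,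
    Int.cast_one, Int.cast_zero, Int.cast_ofNat, one_mul]
  rw [← mul_assoc, div_mul_cancel₀ _ h0]

variable {m : ℕ} {k : Type} [Field k] [CharP k 2] [IsAlgClosed k] (X : XF hpF4 2 k ((2 : ℤ) ^ m • GamF))

theorem wm_wT (i : Fin 11) : X.D.Wm (wT X i) * X.D.Mx = (2 : ℤ) ^ m • aT i :=
  (wm_mx X _).trans (congrArg (fun A : Matrix (Fin 4) (Fin 4) ℤ => (2 : ℤ) ^ m • A) (el_G4 X _))

theorem rt_sr (i : Fin 4) : X.D.Rt (Pi.single i 1) := Tits.Roots.isRoot_sr _ _ i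

theorem two {l : ℕ} (hl : l.Prime) (h2 : l ≠ 2) (i : Fin 11) (u u' : Fin 4 → ℤ) (h : Two X.D l (wT X i) u u') :
    Rg X.D l (wT X i) u u' ∧ RegE X.D (wT X i) := by
  have k1 : Fx l m (aT i) u := fun j => wm_wT X i ▸ h.fx j
  have k2 : Fx l m (aT i) u' := fun j => wm_wT X i ▸ h.fx' j
  have hi := mem_of hl h2 k1 k2 h.ind
  refine ⟨⟨fun a ha => ?_, fun v hv e e' => ?_⟩, ⟨_, _, rt_sr X 0, rfl⟩, ?_⟩
  · obtain ⟨r, hr, rfl⟩ := (X.rt_iff a).1 ha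
    exact (c2 i hi r hr).no hl h2 k1 k2 h.ind
  · obtain ⟨L, hL, rfl⟩ := (mem_cw X).1 hv
    rcases c3 i hi L hL with rfl | ⟨c, -, hc⟩
    · exact el_nil X
    · exact absurd (row_dvd (V := mW L 1) (wm_el X L ▸ e') c) (hc.no hl h2 k1 k2 h.ind (row_dvd (V := mW L 1) (wm_el X L ▸ e) c))
  · obtain ⟨μ, y, e, e'⟩ := exists_eig (c4 i hi) (2 ^ m)
    refine ⟨μ, y, wm_wT X i ▸ e, ?_⟩
    rintro _ ⟨a, ha, rfl⟩
    obtain ⟨r, hr, rfl⟩ := (X.rt_iff a).1 ha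
    exact e' _ (c5 i hi r hr)

theorem sep (i : Fin 11) (u : X.D.W) (h : Cp X.D (wT X i) u) : ∃ v, Tc X.D v u (wT X i) := by
  obtain ⟨j, v, h1⟩ := cls X u
  have h0 : (2 : ℤ) ^ m ≠ 0 := pow_ne_zero m two_ne_zero
  have h2 := h.det (5 / (((2 : ℤ) ^ m : ℤ) : ℂ)) 1
  rw [wm_mx, wm_mx] at h2
  have h3 := Int.cast_injective (α := ℂ) ((det_cast _ h0).symm.trans (h2.trans (det_cast _ h0)))
  have h4 : evP (cp4 (wm X (wT X i) * G4)) 5 = evP (cp4 (wm X u * G4)) 5 := (det_cp4 _ 5).symm.trans (h3.trans (det_cp4 _ 5))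
  exact ⟨v, evP_inj j i (by rw [← cp_wT X, ← cp_wT X, ← evP_tc X h1, h4]) ▸ h1⟩

theorem cz : Cz 2 (rts X.D) := by
  have h : ∀ i : Fin 4, (Pi.single i 1 : Fin 4 → ℤ) ∈ Submodule.span ℤ (Prod.fst '' rts X.D) := fun i =>
    Submodule.subset_span ⟨_, ⟨_, rt_sr X i, rfl⟩, rfl⟩
  refine ⟨0, fun l => ⟨fun i => l ⟨_, h i⟩, fun x => ?_⟩⟩
  have e : x = ∑ i : Fin 4, x.1 i • (⟨_, h i⟩ : Submodule.span ℤ (Prod.fst '' rts X.D)) := Subtype.ext (by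
    rw [Submodule.coe_sum]
    exact pi_eq_sum_univ' x.1)
  rw [Nat.cast_ofNat, pow_zero, one_mul]
  refine Eq.trans ?_ (congrArg l e).symm
  rw [map_sum]
  exact Finset.sum_congr rfl fun i _ => (map_smul l _ _).symm

end FinA

/-- **the finite checks** -/
theorem boxFin : BoxFin := fun _ _ _ _ _ X => ⟨fun _ hl h2 => FinA.two X hl h2, FinA.sep X, FinA.cz X⟩

end Cfsg.Agent.OM.Tf
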