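import Cfsg.Agent.OM.Tf.Defs
import Cfsg.Agent.OM.Lie.Kb

/-!
# OM / Tf : positivity (helper10)

`boxPos`, `boxAll`.
-/

set_option autoImplicit false
set_option linter.unusedSectionVars false

namespace Cfsg.Agent.OM.Tf

open Cfsg Cfsg.Agent.DL Cfsg.Agent.DL.PP Cfsg.Agent.DL.Uni Matrix Cfsg.Agent.KZ.Lie Cfsg.Agent.HZ.L Cfsg.Agent.OM.Au
  Cfsg.Agent.OM.Cas Cfsg.Agent.OM.Lie.Kb Cfsg.Agent.Characters.Core

variable {p : ℕ} [Fact p.Prime] {k : Type} [Field k] [CharP k p] [IsAlgClosed k] {Y : Type} [Group Y] {N : Type}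
  [Fintype N] [DecidableEq N] {ρ : Y →* GL N k} {F : MulAut Y} {G : Subgroup Y} (D : Datum p ρ F G) [Fintype ↥(GF F G)]

namespace PosA

variable {D} (f : Fr D) {B : Set (IrrCharacter ↥(GF F G))} {w : D.W} {c : Lbl D}

theorem ip_sum [Fintype (IrrCharacter ↥(GF F G))] (φ : GF F G → ℂ) : classInner (RW f w c) φ =
    ∑ ξ : IrrCharacter ↥(GF F G), classInner (RW f w c) ξ * classInner (ξ : GF F G → ℂ) φ := by
  conv_lhs => rw [classFunction_eq_sum (OddOrderCharacters.VChar.gen_isClassFunction (RW_gen f w c)), classInner_sum_left]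
  exact Finset.sum_congr rfl fun ξ _ => classInner_smul_left _ _ _

theorem mem (h : In D f B w c) (ξ : IrrCharacter ↥(GF F G)) (e : classInner (RW f w c) ξ ≠ 0) : ξ ∈ B :=
  h.2 ξ fun k => e (by rw [← classInner_conj_symm, k, map_zero])

theorem rf_empty (hq : D.QS) (hQ : QQ f B) (h : In D f B w c) {a : D.I → ℤ} (ha : D.Rt a) : chr (D.cor a) c ≠ 1 := fun e => by
  classical
  have := Fintype.ofFinite D.W
  have := @Fintype.ofFinite _ (finite_irr (G := GF F G))
  obtain ⟨T, hT⟩ := exists_T D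
  have h0 : (Nat.card D.W : ℂ) ≠ 0 := Nat.cast_ne_zero.2 Nat.card_pos.ne'
  have h1 : Iv D fun u => if sg D u = sg D w then 0 else 1 := fun u u' k => by simp only [k.sg]
  have h2 := van f hq hT hQ (mem f h) h1 (β := fun _ => 1) (fun _ _ _ => rfl) (fun u c' => ip_sum f (RW f u c'))
    ((sum_inv f hq hT (Φ := fun u _ => if sg D u = sg D w then 0 else 1) (fun v _ _ _ _ k _ => h1 _ _ (cp_tc k)) h.1).trans
      (by rw [if_pos rfl, mul_zero]))
    ((sum_inv f hq hT (Φ := fun _ _ => 1) (fun _ _ _ _ _ _ _ => rfl) h.1).trans_ne (mul_ne_zero h0 one_ne_zero))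
  have h3 : cas D c (fun u => if sg D u = sg D w then 0 else 1) w = ∑ t, if t ∈ Rf D c then 1 else 0 :=
    Finset.sum_congr rfl fun t _ => by
      by_cases k : t ∈ Rf D c
      · obtain ⟨b, hb, rfl, -⟩ := id k
        rw [if_pos k, if_pos k]
        refine if_neg ?_
        rw [sg_mul, sg_eq D (D.rf b), sgZ_rf D hb]
        rcases sg_sign D w with k | k <;> rw [k] <;> norm_num
      · rw [if_neg k, if_neg k]
  rw [sum_inv f hq hT (Φ := fun u c' => cas D c' _ u) (fun v _ _ _ _ k k' => cas_conj h1 k k') h.1, mul_eq_zero, or_iff_right h0, h3,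
    Finset.sum_boole, Nat.cast_eq_zero, Finset.card_eq_zero] at h2
  exact Finset.eq_empty_iff_forall_notMem.1 h2 _ (Finset.mem_filter.2 ⟨Finset.mem_univ _, a, ha, rfl, e⟩)

end PosA

open PosA

/-- **positivity** -/
theorem boxPos : BoxPos D := by
  intro hq hz f B w c hQ h χ hχ
  have h1 : ∀ v, Rel D v c c → v = 1 := fun v hv => by
    have h2 := (X.stab_WW hz (fo_of_fx h.1)).1 hv
    rw [show X.Zc (rts D) c = ∅ from Set.eq_empty_of_forall_notMem (by
      rintro _ ⟨⟨a, ha, rfl⟩, e⟩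
      exact rf_empty f hq hQ h ha e), WW, Set.image_empty, Submonoid.closure_empty, Submonoid.mem_bot, ← D.Wm_one] at h2
    exact D.Wm_injective h2
  have h2 : classInner (RW f w c) (RW f w c) = 1 := by
    rw [RW_ip f h.1 h.1, Nat.cast_eq_one, Nat.card_eq_one_iff_exists]
    exact ⟨⟨1, tc_one w, rel_one D c⟩, fun v => Subtype.ext (h1 v v.2.2)⟩
  have h3 := RW_deg f hq h.1
  obtain ⟨n, -, hn⟩ := isIrr_apply_one χ.2
  have h4 : charDegree (χ : GF F G → ℂ) = n := by rw [charDegree, hn]; simp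
  have h5 : (n * ordT D w : ℂ) ^ 2 = (pc' p (GF F G) : ℂ) ^ 2 := by
    have h6 : RW f w c 1 ^ 2 = n ^ 2 := by
      rcases isIrr_of_generalized (RW_gen f w c) h2 with k | k
      · rw [← hn, not_not.1 fun e => hχ (classInner_irr_ne χ.2 k e)]
      · rw [← hn, not_not.1 fun e => hχ (neg_eq_zero.1 ((classInner_neg_right _ _).symm.trans (classInner_irr_ne χ.2 k e))),
          Pi.neg_apply, neg_sq]
    rw [mul_pow, ← h6, ← mul_pow, h3, mul_pow, sq, sg_mul_self, one_mul]
  rw [h4]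
  exact Nat.pow_left_injective two_ne_zero (by exact_mod_cast h5)

/-- **all members meet the torus** -/
theorem boxAll : BoxAll D := by
  classical
  intro hq f B w c hQ h hs χ hχ
  have := Fintype.ofFinite D.W
  have := @Fintype.ofFinite _ (finite_irr (G := GF F G))
  obtain ⟨T, hT⟩ := exists_T D
  have h1 : Iv D fun u => if Cp D w u then 1 else 0 := fun u u' k => if_congr ⟨fun e => e.trans k, fun e => e.trans k.symm⟩ rfl rfl
  by_contra h2
  have h3 : ∑ᶠ u, (if Cp D w u then 1 else 0) * Yt f (χ : GF F G → ℂ) u = 0 := finsum_eq_zero_of_forall_eq_zero fun u => by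
    split_ifs with e
    · obtain ⟨v, hv⟩ := hs u e
      rw [Yt, finsum_eq_zero_of_forall_eq_zero, mul_zero]
      exact fun c' => not_not.1 fun k => h2 ⟨mon (D.Wm v⁻¹)ᵀ c', Has.conj k hv fun x => by
        rw [chr_tr, mulVec_mulVec, ← D.Wm_mul, inv_mul_cancel, D.Wm_one, one_mulVec]⟩
    · exact zero_mul _
  have h4 := sum_inv f hq hT (Φ := fun u _ => if Cp D w u then 1 else 0) (fun v _ _ _ _ k _ => h1 _ _ (cp_tc k)) h.1
  rw [if_pos (show Cp D w w from rfl), mul_one] at h4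
  refine Nat.cast_ne_zero.2 Nat.card_pos.ne' (h4.symm.trans ?_)
  simp only [ip_sum f (RW f _ _), Finset.mul_sum, mul_left_comm _ (classInner (RW f w c) _)]
  rw [(Finset.sum_congr rfl fun w _ => Finset.sum_comm).trans Finset.sum_comm]
  refine Finset.sum_eq_zero fun ξ _ => ?_
  by_cases e : classInner (RW f w c) ξ = 0
  · simp only [e, zero_mul, Finset.sum_const_zero]
  have h5 := hQ _ h1 ξ (mem f h ξ e) χ hχ
  rw [h3, zero_mul, mul_eq_zero, or_iff_left (isIrr_apply_one_ne_zero χ.2), finsum_eq_sum_of_fintype] at h5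
  simp only [Yt_sum f (hT _)] at h5
  simp only [← Finset.mul_sum, h5, mul_zero]

end Cfsg.Agent.OM.Tf
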