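import Cfsg.Agent.OM.Tf.Defs
import Cfsg.Agent.OM.Gl.Ad
import Cfsg.Agent.H649.Transport

/-!
# OM (S4894), the large Ree groups `²F₄`: the row (helper92)

`boxRow : BoxRow`, a copy of `Gl.covG_ad` with the defect group.
-/

set_option autoImplicit false
set_option linter.unusedSectionVars false

namespace Cfsg.Agent.OM.Tf

open Cfsg Subgroup Cfsg.Lie Cfsg.Agent.DL Cfsg.Agent.DL.PP Cfsg.Agent.KZ.Lie Cfsg.Agent.HZ.L Cfsg.Agent.OM.Au Matrix
  Cfsg.Agent.KZ.DatX Cfsg.Agent.Characters.Core Cfsg.Agent.Blocks.Basic Cfsg.Agent.OM.Gl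

namespace RowP

variable {p : ℕ} [Fact p.Prime] {k : Type} [Field k] [CharP k p] [IsAlgClosed k] {Y : Type} [Group Y] {N : Type}
  [Fintype N] [DecidableEq N] {ρ : Y →* GL N k} {F : MulAut Y} {G : Subgroup Y} {D : Datum p ρ F G} {S : Type} [Group S]
  {l n : ℕ}

/-- **the row if the simple group is `G ^ F`** -/
theorem covG_ad' [Fintype ↥(GF F G)] {T : Subgroup Y} {ι : S →* Y} (O : Ex.Over F G T ι 1) (hq : D.QS)
    (ha : ∀ σ : MulAut S, ∃ g ∈ GF F G, ∃ α A, Au D α A ∧ ∀ s, ι (σ s) = g * α (ι s) * g⁻¹)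
    (hA : HasCyclicSchurMultiplier S n) (hn : n ∣ p) (hl : l ≠ p) (hQ : QE' D) : CovG p l S := fun X _ _ σ M Γ b Q H hZ => by
  have hp : p.Prime := Fact.out
  have := Fact.mk H.hM.1
  have := H.hM.2.1.isPrime
  have h0 := H.sit.qs.1.commutator_eq_top
  have h1 : σ.ker = ⊥ := card_eq_one.1 (((Nat.dvd_prime hp).1
    ((H95.StemCover.card_ker_dvd_cyclic hA h0 σ H.surj H.ker.le).trans hn)).resolve_right fun e => hZ (H.ker ▸ e.symm.dvd))
  let e₀ := MulEquiv.ofBijective σ ⟨(MonoidHom.ker_eq_bot_iff σ).1 h1, H.surj⟩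
  let e := e₀.trans O.equiv
  have h2 : ∀ x, (e x : Y) = ι (σ x) := fun _ => rfl
  obtain ⟨f⟩ := nonempty_fr D
  obtain ⟨θ, hθ⟩ := isPBlock_nonempty H.hb
  have h3 : ∀ x, e.symm.toMonoidHom x = 1 → x ∈ center ↥(GF F G) := fun x hx =>
    (map_eq_one_iff _ e.symm.injective).1 hx ▸ one_mem _
  have hnc : ¬ IsCyclic (Q.map e.toMonoidHom) := fun hc =>
    H.nc ((Q.equivMapOfInjective e.toMonoidHom e.injective).isCyclic.2 hc)
  have key : ∀ B χ, IsPBlock M B → χ ∈ B →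
      TID.Red.Ov (MonoidHom.id _) ((χ : IrrCharacter ↥(GF F G)) : GF F G → ℂ) (fun x => (θ : X → ℂ) (e.symm.toMonoidHom x)) →
      B = blockOf M fun x => (θ : X → ℂ) (e.symm.toMonoidHom x) := fun B χ hB hχ h =>
    (isPBlock_eq_blockOf hB hχ).trans (congrArg (blockOf M) (congrArg Subtype.val
      ((Gen.Cov.ov_self (ι := .id _) (θ := χ) (fun _ => rfl)
        ⟨_, isIrr_comp e.symm.toMonoidHom e.symm.surjective θ.2⟩).1 h)).symm)
  refine lift_of_eq_deg H.hM Γ e.symm.toMonoidHom e.symm.surjective (.id _) H.sit.ndvd Function.injective_id ?_ h3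
    (fun y hy => mem_center_iff.2 fun x => (hy x).symm) (fun x _ => ⟨x, rfl⟩)
    (fun α _ => ⟨MulAut.congr e α, fun x => by simp, MulAut.congr e α, fun y x x' h => by simpa using congrArg (MulAut.congr e α) h,
      fun y y' x h => by simpa using congrArg (MulAut.congr e α) h⟩) H.hb hθ fun B χ hB hχ h =>
        hQ f l M H.hM hl B (Q.map e.toMonoidHom) hB ?_ hnc ?_
  · rw [_root_.commutator_def, ← map_top_of_surjective e.toMonoidHom e.surjective, ← map_commutator,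
      ← _root_.commutator_def, h0]
  · have h8 := H649.isDefectGroup_blkMap (e := e) H.hD
    rw [isPBlock_eq_blockOf H.hb hθ, H649.blkMap_blockOf] at h8
    rw [key B χ hB hχ h]
    exact h8
  rw [key B χ hB hχ h]
  refine QQ.of_Pc fun a h4 => of_one H.hM H.hb H.one e.symm.surjective h3 (fun x hx h5 => ?_) (fun α _ => ?_) hθ
  · obtain ⟨n, hn⟩ := (dG_supp hx).1
    rw [orderOf_coe] at hn
    exact hl ((Nat.prime_dvd_prime_iff_eq H.hM.1 hp).1 (H.hM.1.dvd_of_dvd_pow (hn ▸ h5)))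
  obtain ⟨g, hg, β, A, h5, h6⟩ := ha (MulAut.congr e₀ α)
  refine ⟨(MulAut.congr e α).toEquiv, e.surjective.forall.2 fun x => ⟨?_, fun _ => by simp⟩⟩
  have h7 : MulAut.congr e α (e x) = ⟨g, hg⟩ * h5.aut (e x) * (⟨g, hg⟩ : ↥(GF F G))⁻¹ := Subtype.ext (by
    refine Eq.trans ?_ (h6 (σ x))
    change ι (σ (α (e.symm (e x)))) = ι (σ (α (e₀.symm (e₀ x))))
    rw [e.symm_apply_apply, e₀.symm_apply_apply])
  change dG f a (MulAut.congr e α (e x)) = _
  rw [h7, dG_conj, dG_aut hq h4 h5]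

end RowP

/-- **the row** -/
theorem boxRow : BoxRow := by
  intro hQ l _ hl F _ _ m hm hF
  obtain ⟨k, _, _, _, X, ⟨s⟩⟩ := has_2F4 hm hF
  have := X.finite
  have := Fintype.ofFinite ↥(GF X.F ⊤)
  exact RowP.covG_ad' s.ov X.D_qs (fun σ => let ⟨g, h1, α, A, h2, _, h3⟩ := s.aut σ; ⟨g, h1, α, A, h2, h3⟩)
    (S2114.result hm hF) (one_dvd _) hl (hQ m hm k X)

end Cfsg.Agent.OM.Tf
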