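import Cfsg.Agent.OM.Tf.Geo
import Cfsg.Agent.OM.Tf.Pos
import Cfsg.Agent.OM.Tf.Blk
import Cfsg.Agent.OM.Tf.Fin
import Cfsg.Agent.OM.Tf.Row
import Cfsg.Agent.OM.Top2
import Cfsg.Agent.OM.On.E6.All

/-!
# OM (S4894): the large Ree groups, and the reduction to the labels of `E₇` (helper4)
-/

set_option autoImplicit false

namespace Cfsg.Agent.OM.Tf.Al4

open Cfsg Cfsg.Agent.HZ.L

/-- **the large Ree groups** -/
theorem tf4 : Gl.Tf4 := fun l _ hl F _ _ m hm hF =>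
  boxRow (fun m _ k _ _ _ X _ => qe_of X (TO.X.Cn.pi1 X TO.X.Cn.pm_F4) (boxGeo X.D) (boxPos X.D) (boxAll X.D) (boxBlk X.D)
    (boxFin m k X)) l hl F m hm hF

/-- **the quasisimple box from the labels of `E₇`** -/
theorem qsAll_e7 (h7 : ∀ (p : ℕ) [Fact p.Prime], AllD p fun D => On.BoxE7 D) : QSAll :=
  qsAll_fin2 (fun _ _ _ _ _ _ _ _ _ _ _ _ _ _ D _ => On.boxE6 D) h7 tf4

end Cfsg.Agent.OM.Tf.Al4
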