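import Cfsg.Agent.OM.Tf.Defs
import Cfsg.Agent.HZ.L.Sb.Main
import Cfsg.Agent.HZ.L.Chf.Res

/-!
# OM (S4894), `²F₄` : a regular torus at one level (helper50)

`lt_of_fix`, `exists_P`, `tor_irr`, `un_iff`, `mem_T`.
-/

set_option autoImplicit false
set_option linter.unusedSectionVars false

namespace Cfsg.Agent.OM.Tf.Bk

open Cfsg Cfsg.Agent.DL Cfsg.Agent.DL.PP Cfsg.Agent.DL.Uni Cfsg.Agent.DL.Asm Cfsg.Agent.Nodes.Reps Matrix Cfsg.Agent.KZ.Lie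
  Cfsg.Agent.HZ.L Cfsg.Agent.HZ.Gen Cfsg.Agent.Characters.Core Subgroup

/-- the prime is larger than the level -/
theorem lt_of_fix {R : Type} [Fintype R] [DecidableEq R] {A : Matrix R R ℤ} {m r : ℕ} {t : ℤ} (hm : m.Prime) (hr : r.Prime)
    (hA : A ^ m = t • A) (h0 : ¬ (r : ℤ) ∣ (A - 1).det) {z : R → ℤ} (h1 : ∀ i, (r : ℤ) ∣ ((A ^ m - 1) *ᵥ z) i)
    (h2 : ∃ i, ¬ (r : ℤ) ∣ z i) : m < r := by
  have := Fact.mk hr
  have := Fact.mk hm
  let φ := Int.castRingHom (ZMod r)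
  let A' : Matrix R R (ZMod r) := φ.mapMatrix A
  let z' : R → ZMod r := fun i => φ (z i)
  have h3 : z' ≠ 0 := fun e => h2.elim fun i hi => hi ((ZMod.intCast_zmod_eq_zero_iff_dvd _ _).1 (congrFun e i))
  have h4 : A' ^ m = (t : ZMod r) • A' := by
    rw [← map_pow, hA]
    ext i j
    simp [A', φ, -zsmul_eq_mul]
  have h5 : A' ^ m *ᵥ z' = z' := by
    rw [← sub_eq_zero]
    funext i
    have h6 := (ZMod.intCast_zmod_eq_zero_iff_dvd _ _).2 (h1 i)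
    rw [show ((((A ^ m - 1) *ᵥ z) i : ℤ) : ZMod r) = φ (((A ^ m - 1) *ᵥ z) i) from rfl, RingHom.map_mulVec] at h6
    rw [show (A ^ m - 1).map φ = φ.mapMatrix (A ^ m - 1) from rfl, map_sub, map_pow, map_one, sub_mulVec, one_mulVec] at h6
    exact h6
  have h6 : ∀ i : ℕ, (A' ^ m) ^ i *ᵥ z' = z' := fun i => by
    induction i with
    | zero => rw [pow_zero, one_mulVec]
    | succ i ih => rw [pow_succ, ← mulVec_mulVec, h5, ih]
  have h7 : (t : ZMod r) ^ m = 1 := by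
    have h7 := h6 m
    rw [h4, smul_pow, smul_mulVec, h5, ← sub_eq_zero] at h7
    nth_rewrite 2 [← one_smul (ZMod r) z'] at h7
    rw [← sub_smul, smul_eq_zero, sub_eq_zero] at h7
    exact h7.resolve_right h3
  have h8 : (t : ZMod r) ≠ 1 := fun e => h0 (by
    rw [h4, e, one_smul] at h5
    have h8 : (A' - 1).det = 0 := Matrix.exists_mulVec_eq_zero_iff.1 ⟨z', h3, by rw [sub_mulVec, h5, one_mulVec, sub_self]⟩
    rw [← map_one φ.mapMatrix, ← map_sub, ← RingHom.map_det] at h8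
    exact (ZMod.intCast_zmod_eq_zero_iff_dvd _ _).1 h8)
  have h9 := ZMod.orderOf_dvd_card_sub_one (p := r) (a := (t : ZMod r)) fun e => by simp [e, hm.ne_zero] at h7
  rw [orderOf_eq_prime h7 h8] at h9
  have := Nat.le_of_dvd (by have := hr.two_le; omega) h9
  have := hr.pos
  omega

variable {p : ℕ} [Fact p.Prime] {k : Type} [Field k] [CharP k p] [IsAlgClosed k] {Y : Type} [Group Y] {N : Type}
  [Fintype N] [DecidableEq N] {ρ : Y →* GL N k} {F : MulAut Y} {G : Subgroup Y} {D : Datum p ρ F G} {y : Y} {w : D.W}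

theorem cj_comm {a b : Y} (ha : a ∈ cj y D.T) (hb : b ∈ cj y D.T) : a * b = b * a := by
  have h := D.T_comm (mem_cj.1 ha) (mem_cj.1 hb)
  calc a * b = y * (y⁻¹ * a * y * (y⁻¹ * b * y)) * y⁻¹ := by group
    _ = _ := by rw [h]; group

variable (D y) in
/-- the `r`-part of the finite torus -/
def rT (r : ℕ) : Subgroup ↥(GF F G) where
  carrier := {g | (g : Y) ∈ cj y D.T ∧ ∃ j, g ^ r ^ j = 1}
  one_mem' := ⟨one_mem _, 0, one_pow _⟩
  mul_mem' := by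
    rintro a b ⟨ha, i, hi⟩ ⟨hb, j, hj⟩
    refine ⟨mul_mem ha hb, i + j, ?_⟩
    rw [Commute.mul_pow (Subtype.ext (cj_comm ha hb)), pow_add, pow_mul, hi, one_pow, mul_comm, pow_mul, hj, one_pow, mul_one]
  inv_mem' := by
    rintro a ⟨ha, i, hi⟩
    exact ⟨inv_mem ha, i, by rw [inv_pow, hi, inv_one]⟩

theorem rT_pg (r : ℕ) : IsPGroup r (rT D y r) := fun g => g.2.2.imp fun _ h => Subtype.ext h

/-- the centraliser of the `r`-part is the torus -/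
theorem exists_P {r : ℕ} (hr : r.Prime) (hp : r ≠ p) (hW : ¬ r ∣ Nat.card D.W) (hy : y ∈ G) (hw : D.Rp w (y⁻¹ * F y))
    {z : Vec D.R} (h1 : ∀ i, (r : ℤ) ∣ ((D.Wm w * D.Mx - 1) *ᵥ z) i) (h2 : ∀ a ∈ rts D, ¬ (r : ℤ) ∣ a.1 ⬝ᵥ z) :
    ∃ (s : Sb D) (u : s.E.W), s.For r (rT D y r) ∧ rts s.E = ∅ ∧ w = s.sw u * s.w ∧ s.K = cj y D.T := by
  have : NeZero ((r : ℕ) : k) := ⟨fun h => hp ((Nat.prime_dvd_prime_iff_eq Fact.out hr).1
    ((CharP.cast_eq_zero_iff k p _).1 h)).symm⟩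
  obtain ⟨ζ₀, h0⟩ := HasEnoughRootsOfUnity.exists_primitiveRoot k r
  have hζ := h0.isUnit_unit hr.ne_zero
  generalize (h0.isUnit hr.ne_zero).unit = ζ at hζ
  have h3 : (D.conj hy ⟨w, hw⟩).τ (coch z ζ) ∈ GF F G := ⟨(D.conj hy ⟨w, hw⟩).T_le_G (Datum.τ_mem _ _), by
    show F _ = (D.conj hy ⟨w, hw⟩).τ _
    rw [(D.conj hy ⟨w, hw⟩).F_τ, D.conj_Mx, Datum.Rp.pr_eq hw, mon_coch]
    exact congrArg _ (funext fun i => by
      have := h1 i
      rw [sub_mulVec, one_mulVec, Pi.sub_apply, ← hζ.zpow_eq_one_iff_dvd, _root_.zpow_sub, mul_inv_eq_one] at this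
      exact this)⟩
  have h4 : (⟨_, h3⟩ : GF F G) ∈ rT D y r := ⟨D.conj_T hy ⟨w, hw⟩ ▸ Datum.τ_mem _ _, 1, Subtype.ext (by
    show (D.conj hy ⟨w, hw⟩).τ (coch z ζ) ^ r ^ 1 = 1
    rw [pow_one, ← map_pow, ← map_pow, hζ.pow_eq_one, map_one, map_one])⟩
  have h5 : {a | D.Rt a ∧ D.wt a ⬝ᵥ z = 0} = ∅ :=
    Set.eq_empty_of_forall_notMem fun a ha => h2 _ (rt_mem ha.1) (ha.2 ▸ dvd_zero _)
  obtain ⟨s, u, h6, h7, h8, h9⟩ := SbB.main hy ⟨w, hw⟩ hr hW (rT_pg (D := D) (y := y) r) (lam := z) (by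
    rintro _ ⟨a, ha, rfl⟩
    exact (D.conj_T hy ⟨w, hw⟩).ge ha.1) (h5 ▸ Set.eq_empty_of_forall_notMem fun a ha => by
      have h6 := ha.2 _ ⟨_, h4, rfl⟩
      rw [coe_subtype, Datum.χ_τ, chr_coch, Units.val_eq_one, hζ.zpow_eq_one_iff_dvd] at h6
      exact h2 _ (rt_mem ha.1) h6)
  refine ⟨s, u, h6, h7.trans (Set.eq_empty_of_forall_notMem fun a ha => h2 a ha.1 (ha.2 ▸ dvd_zero _)),
    (Datum.Rp.pr_eq hw).symm.trans h8, ?_⟩
  rw [h9, h5, sup_eq_left.2 (Nodes.BNOf.RGD.Sup_le fun _ h => h.elim)]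

theorem W_one (h : rts D = ∅) (u : D.W) : u = 1 := D.Wm_injective (by
  have h1 := Wm_mem u
  rw [h, WW, Set.image_empty, Submonoid.closure_empty, Submonoid.mem_bot] at h1
  rw [h1, D.Wm_one])

/-- centralising elements at a higher level lie in the torus -/
theorem mem_T {d e m i : ℕ} (L : Lvl D d e) (hm : 0 < m) (hi : m = d * i + 1) (hy : y ∈ G) (hw : D.Rp w (y⁻¹ * F y)) {g : Y}
    (hg : (F ^ m) g = g) {v : D.W} (hv : D.Rp v (y⁻¹ * g * y)) (h : Tc D v w w → v = 1) : g ∈ cj y D.T := by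
  have h1 := LV.Lift.rp_pow L hm hi hy hw
  have h2 : (D.pow hm).Rp v (y⁻¹ * g * y) := hv
  have h3 : w * (D.pow hm).Fw v = v * w := (D.pow hm).rp_unique (h1.mul h2.mapF) (by
    convert h2.mul h1 using 1
    rw [map_mul, map_mul, map_inv, hg]
    group)
  rw [LV.One.pow_Fw L hm (hi.trans (add_comm _ _))] at h3
  rw [h h3] at hv
  exact mem_cj.2 hv.mem_of_one

variable [Fintype ↥(GF F G)] {f : Fr D} {c : Lbl D}

/-- the characters of a torus -/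
theorem tor_irr (hq : D.QS) (h : rts D = ∅) (hc : Fx D w c) : ∃ (ε : ℂ) (ψ : IrrCharacter ↥(GF F G)), ε ≠ 0 ∧
    ∀ φ, classInner φ (RW f w c) = ε * classInner φ (ψ : ↥(GF F G) → ℂ) := by
  have hA := KZ.Mts.boxApi f hq
  have h1 : classInner (RW f w c) (RW f w c) = 1 := by
    rw [hA.ip w w c c hc hc, Nat.cast_eq_one, Nat.card_eq_one_iff_unique]
    refine ⟨⟨fun a b => Subtype.ext ((W_one h _).trans (W_one h _).symm)⟩, ⟨1, (CW D w).one_mem, rel_one D c⟩⟩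
  rcases isIrr_of_generalized (hA.gen w c) h1 with h2 | h2
  · exact ⟨1, ⟨_, h2⟩, one_ne_zero, fun φ => (one_mul _).symm⟩
  · exact ⟨-1, ⟨_, h2⟩, by simp, fun φ => by rw [classInner_neg_right, neg_mul_neg, one_mul]⟩

end Cfsg.Agent.OM.Tf.Bk
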