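import Cfsg.Agent.OM.Tf.Defs
import Cfsg.Agent.KM.Ex.One
import Cfsg.Agent.S0126

/-!
# OM (S4894), the large Ree groups: the geometry of a plane of `l`-elements (helper4)

`boxGeo`.
-/

set_option autoImplicit false
set_option linter.unusedSectionVars false

namespace Cfsg.Agent.OM.Tf

open Cfsg Cfsg.Agent.DL Cfsg.Agent.DL.PP Cfsg.Agent.Nodes.Reps Matrix Cfsg.Agent.KZ.Lie Cfsg.Agent.HZ.L Subgroup
open Cfsg.Agent.KM.Tor (toral_cen cc_empty not_dvd_ord)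
open Cfsg.Agent.TO.X.Cn (Pi1 mem_cen χ_exp comm_exp)

namespace GeoA

theorem exists_pl {K : Type} [Group K] [Finite K] {l : ℕ} (hl : l.Prime) (h2 : l ≠ 2) {Q : Subgroup K} (hQ : IsPGroup l Q)
    (hn : ¬ IsCyclic Q) : ∃ z ∈ Q, ∃ t ∈ Q, z ^ l = 1 ∧ z ≠ 1 ∧ t ^ l = 1 ∧ t ∉ zpowers z ∧ t * z = z * t := by
  have := Fact.mk hl
  obtain ⟨A, -, h3, h4⟩ := S0126.result h2 hQ hn
  have : Nontrivial A := Finite.one_lt_card_iff_nontrivial.1 (h4 ▸ Nat.one_lt_pow two_ne_zero hl.one_lt)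
  obtain ⟨z, hz⟩ := exists_ne (1 : A)
  have h5 : ∀ a : A, a ^ l = 1 := fun a => Subtype.ext (h3.2 a a.2)
  obtain ⟨t, ht⟩ : ∃ t, t ∉ zpowers z := by
    by_contra! h
    rw [← card_top, ← (eq_top_iff' _).2 h, Nat.card_zpowers, orderOf_eq_prime (h5 z) hz] at h4
    nlinarith [hl.one_lt]
  let ι : A →* K := Q.subtype.comp A.subtype
  have hι : Function.Injective ι := Subtype.val_injective.comp Subtype.val_injective
  exact ⟨ι z, z.1.2, ι t, t.1.2, by rw [← map_pow, h5, map_one], fun e => hz (hι (e.trans ι.map_one.symm)),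
    by rw [← map_pow, h5, map_one], fun ⟨n, e⟩ => ht ⟨n, hι ((map_zpow ι z n).trans e)⟩,
    by rw [← map_mul, h3.1.is_comm.comm, map_mul]⟩

variable {p : ℕ} [Fact p.Prime] {k : Type} [Field k] [CharP k p] [IsAlgClosed k] {Y : Type} [Group Y] {N : Type}
  [Fintype N] [DecidableEq N] {ρ : Y →* GL N k} {F : MulAut Y} {G : Subgroup Y} {D : Datum p ρ F G} {l : ℕ}

/-- two commuting elements are toral -/
theorem tor2 (h : Pi1 D 1) (hl : l.Prime) (hp : l ≠ p) {z t : Y} (hz : z ∈ GF F G) (ht : t ∈ GF F G) (z1 : z ^ l = 1)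
    (t1 : t ^ l = 1) (hc : t * z = z * t) : ∃ y ∈ G, ∃ w, D.Rp w (y⁻¹ * F y) ∧ y⁻¹ * z * y ∈ D.T ∧ y⁻¹ * t * y ∈ D.T := by
  obtain ⟨g, hg, h2⟩ := toral_cen (X := D) (Set.empty_subset _) Set.finite_empty (cc_empty _ hz.1 fun _ h => h.elim)
    (not_dvd_ord hl hp (j := 1) (by rwa [pow_one]))
  replace hg := D.cen_le_G _ hg
  obtain ⟨c, hc1, h3⟩ := toral_cen (Set.singleton_subset_iff.2 h2) (Set.finite_singleton _) (y := g⁻¹ * t * g)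
    (mem_cen h h2 (KM.Ex.conj_pow_eq z1) (Nat.coprime_one_right l) (mul_mem (mul_mem (inv_mem hg) ht.1) hg) (
      calc _ = g⁻¹ * (t * z) * g := by group
        _ = _ := by rw [hc]; group)) (not_dvd_ord hl hp (j := 1) (by rw [pow_one]; exact KM.Ex.conj_pow_eq t1))
  obtain ⟨y, hy, ⟨w, hN⟩, h4, -⟩ := SB.Exc.Max.exists_conj_le_T D (Z := {z, t}) (by
      rintro _ (rfl | rfl)
      · exact .inl hz.2
      · exact .inr ht.2) (mul_mem hg (D.cen_le_G _ hc1)) (by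
      rintro _ (rfl | rfl)
      · rwa [show ∀ z, (g * c)⁻¹ * z * (g * c) = c⁻¹ * (g⁻¹ * z * g * c) from fun z => by group,
          D.cen_le_centralizer (Set.singleton_subset_iff.2 h2) hc1 _ rfl, inv_mul_cancel_left]
      · rwa [show ∀ t, (g * c)⁻¹ * t * (g * c) = c⁻¹ * (g⁻¹ * t * g) * c from fun t => by group])
  exact ⟨y, hy, w, hN, mem_cj.1 (h4 (.inl rfl)), mem_cj.1 (h4 (.inr rfl))⟩

theorem fx {y z : Y} {w : D.W} (hw : D.Rp w (y⁻¹ * F y)) (hz : F z = z) {u : Vec D.R} {ζ : kˣ}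
    (e : y⁻¹ * z * y = D.τ (coch u ζ)) (i : D.R) : (orderOf ζ : ℤ) ∣ ((D.Wm w * D.Mx - 1) *ᵥ u) i := by
  have h1 := D.conj_τ hw (mon D.Mx (coch u ζ))
  rw [← D.F_τ, ← e, map_mul, map_mul, map_inv, hz, ← mon_mul, mon_coch,
    show y⁻¹ * F y * ((F y)⁻¹ * z * F y) * (y⁻¹ * F y)⁻¹ = y⁻¹ * z * y by group, e] at h1
  have h2 : ζ ^ u i = ζ ^ ((D.Wm w * D.Mx) *ᵥ u) i := congrFun (D.τ_inj h1) i
  rw [sub_mulVec, one_mulVec, Pi.sub_apply, orderOf_dvd_iff_zpow_eq_one, _root_.zpow_sub, ← h2, mul_inv_cancel]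

end GeoA

variable {p : ℕ} [Fact p.Prime] {k : Type} [Field k] [CharP k p] [IsAlgClosed k] {Y : Type} [Group Y] {N : Type}
  [Fintype N] [DecidableEq N] {ρ : Y →* GL N k} {F : MulAut Y} {G : Subgroup Y} (D : Datum p ρ F G) [Fintype ↥(GF F G)]

/-- **geometry** -/
theorem boxGeo : BoxGeo D := fun h l hl hp h2 Q hQ hn ι wT hT => by
  obtain ⟨z, hz, t, ht, z1, z2, t1, t2, hc⟩ := GeoA.exists_pl hl h2 hQ hn
  have z3 : (z : Y) ^ l = 1 := congrArg Subtype.val z1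
  have t3 : (t : Y) ^ l = 1 := congrArg Subtype.val t1
  obtain ⟨y₀, h3, w, h4, h5, h6⟩ := GeoA.tor2 h hl hp z.2 t.2 z3 t3 (congrArg Subtype.val hc)
  obtain ⟨i, v, h7⟩ := hT w
  obtain ⟨n, h8, -⟩ := D.exists_rp v
  obtain ⟨y, hy, h9, h10, h11⟩ : ∃ y ∈ G, D.Rp (wT i) (y⁻¹ * F y) ∧ y⁻¹ * z * y ∈ D.T ∧ y⁻¹ * t * y ∈ D.T := by
    have e : ∀ x : Y, y₀⁻¹ * x * y₀ ∈ D.T → (y₀ * n⁻¹)⁻¹ * x * (y₀ * n⁻¹) ∈ D.T := fun x hx => by
      obtain ⟨c, e⟩ := (D.mem_T _).1 hx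
      rw [show (y₀ * n⁻¹)⁻¹ * x * (y₀ * n⁻¹) = n * (y₀⁻¹ * x * y₀) * n⁻¹ by group, ← e, D.conj_τ h8]
      exact D.τ_mem _
    refine ⟨y₀ * n⁻¹, mul_mem h3 (inv_mem (Datum.Rp.mem_G h8)), ?_, e _ h5, e _ h6⟩
    rw [eq_mul_inv_of_mul_eq h7, show (y₀ * n⁻¹)⁻¹ * F (y₀ * n⁻¹) = n * (y₀⁻¹ * F y₀) * (F n)⁻¹ by rw [map_mul, map_inv]; group]
    exact (h8.mul h4).mul (Datum.Rp.mapF h8).inv
  obtain ⟨ζ, hζ⟩ := KM.Tor.exists_prim p k (n := l) fun h => hp ((Nat.prime_dvd_prime_iff_eq Fact.out hl).1 h).symm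
  obtain ⟨u, hu⟩ := KM.Ex.exists_coch hζ hl h10 (KM.Ex.conj_pow_eq z3)
  obtain ⟨u', hu'⟩ := KM.Ex.exists_coch hζ hl h11 (KM.Ex.conj_pow_eq t3)
  refine ⟨i, u, u', closure {z, t}, ⟨hζ ▸ GeoA.fx h9 z.2.2 hu, hζ ▸ GeoA.fx h9 t.2.2 hu', fun a b hab =>
    KM.Ex.indep hl z1 z2 t1 t2 (Subtype.ext ((MulAut.conj y⁻¹).injective ?_))⟩,
    (closure_le _).2 (Set.insert_subset hz (Set.singleton_subset_iff.2 ht)), fun hR => ⟨y, hy, h9, fun a ha => ?_, fun g hg hA => ?_⟩⟩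
  · rw [coe_mul, coe_zpow, coe_zpow, map_mul, map_zpow, map_zpow, MulAut.conj_apply, MulAut.conj_apply, inv_inv, hu, hu',
      ← map_zpow, ← map_zpow, ← map_zpow, ← map_zpow, ← map_mul, ← coch_zsmul, ← coch_zsmul, ← coch_add, coe_one, map_one,
      ← map_one D.τ]
    exact congrArg _ (funext fun r => orderOf_dvd_iff_zpow_eq_one.1 (hζ ▸ hab r))
  · exact (closure_le ((cj y D.T).comap (GF F G).subtype)).2
      (Set.insert_subset (mem_cj.2 h10) (Set.singleton_subset_iff.2 (mem_cj.2 h11))) ha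
  have e : ∀ a ∈ closure {z, t}, y⁻¹ * (a : Y) * y * (y⁻¹ * g * y) = y⁻¹ * g * y * (y⁻¹ * a * y) := fun a ha =>
    calc _ = y⁻¹ * (a * g) * y := by group
      _ = _ := by rw [← hA a ha]; group
  obtain ⟨c, h12, m, ⟨x, h13⟩, h14, h15⟩ := D.exists_cen_form (Z := {D.τ (coch u ζ), D.τ (coch u' ζ)})
    (Set.insert_subset (D.τ_mem _) (Set.singleton_subset_iff.2 (D.τ_mem _))) (mul_mem (mul_mem (inv_mem hy) hg) hy) (by
      rintro _ (rfl | rfl)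
      · exact hu ▸ e z (subset_closure (.inl rfl))
      · exact hu' ▸ e t (subset_closure (.inr rfl)))
  have h16 := KM.Ex.cen_le_T (Set.eq_empty_of_forall_notMem fun a ha => hR.rt a ha.1
    (hζ ▸ (χ_exp D a u ζ).1 (ha.2 _ (.inl rfl))) (hζ ▸ (χ_exp D a u' ζ).1 (ha.2 _ (.inr rfl)))) (D.S_le_cen _ h12)
  refine ⟨x, h15 ▸ one_mul x ▸ (rp_of_mem h16).mul h13, fun e => hR.wy x e (fun j => ?_) fun j => ?_⟩ <;>
    rw [sub_mulVec, one_mulVec, ← hζ]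
  · exact comm_exp D h13 (mem_centralizer_singleton_iff.2 (h14 _ (.inl rfl)).symm) j
  · exact comm_exp D h13 (mem_centralizer_singleton_iff.2 (h14 _ (.inr rfl)).symm) j

end Cfsg.Agent.OM.Tf
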